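import Groth.Agent.SpBlow.Basic
import Groth.Agent.AlgSpLib.ProperCrit
import Groth.Agent.AlgSpLib.Criteria
import Groth.Agent.AlgSpLib.FpqcList

/-!
Blow-ups in finitely presented centres are proper.
-/

set_option autoImplicit false
set_option linter.style.haveILetI false
set_option backward.isDefEq.respectTransparency false

universe u

noncomputable section

open CategoryTheory CategoryTheory.Limits AlgebraicGeometry AlgSp

namespace Groth.Agent.SpBlow

open Groth.Agent.AlgSpLib Groth.Agent.SchImg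

variable {S : Scheme.{u}} {X X' Z : Sp S} {i : Z ⟶ X} {b : X' ⟶ X}

theorem isProperMor_of_isBlowUpSp (hX : IsAlgSpace X) (hX' : IsAlgSpace X')
    (hi : RepWith (@IsClosedImmersion ⊓ @LocallyOfFinitePresentation) i) (hb : IsBlowUpSp b i) : IsProperMor b := by
  have hc : RepWith @IsClosedImmersion i := repWith_mono (fun _ _ r hr => hr.1) hi
  obtain ⟨U, φ, hφ, hφs⟩ := hX.atlas
  obtain ⟨I, hI⟩ := exists_pullIdeal hc φ
  obtain ⟨B, q, r, sq, hq⟩ := exists_chart_blowUp hX hX' hc hb hφ hI
  refine (isLocalOnBase_isProperMor (fun _ : PUnit.{u + 1} => (yon S).obj U) (fun _ => φ) hX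
    (fun _ => IsAlgSpace.yon_obj U) (isFpqcCover_chart hX hφ hφs) b hX' (fun _ => (yon S).obj B)
    (fun _ => (yon S).map q) (fun _ => r) (fun _ => IsAlgSpace.yon_obj B) (fun _ => sq)).2 fun _ => ?_
  exact (isProperMor_iff_repWith (IsAlgSpace.yon_obj B) (IsAlgSpace.yon_obj U)
    ((repWith_yon_iff (P := ⊤) q).2 trivial).1).2 ((repWith_yon_iff q).2 (isProper_chart hi hI hq))

end Groth.Agent.SpBlow

end
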