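import Groth.Agent.SpBlow.Proper
import Groth.Agent.SpApprox.ClosedLim
import Groth.Agent.SpDesc.Stage
import Groth.Agent.RZExt.Descend
import Groth.Agent.SchImg.Section

/-!
A blow-up of a blow-up of spaces is a blow-up.
-/

set_option autoImplicit false
set_option linter.style.haveILetI false
set_option backward.isDefEq.respectTransparency false

universe u

noncomputable section

open CategoryTheory CategoryTheory.Limits AlgebraicGeometry AlgSp

namespace Groth.Agent.SpBlow

open Groth.Agent.AlgSpLib Groth.Agent.SchImg Groth.Agent.BlowUpLib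

variable {S : Scheme.{u}}

theorem comap_pow {A B : Scheme.{u}} (I : B.IdealSheafData) (g : A ⟶ B) (n : ℕ) :
    (I ^ n).comap g = (I.comap g) ^ n := by
  induction n with
  | zero =>
    rw [pow_zero, pow_zero, Scheme.IdealSheafData.one_eq_top, Scheme.IdealSheafData.one_eq_top]
    exact comap_eq_top _ g fun z => by rw [Scheme.IdealSheafData.support_top]; exact fun h => h
  | succ n ih => rw [pow_succ, pow_succ, comap_mul, ih]

open Groth.Agent.EtQC in
/-- finitely presented closed subspaces between an ideal of finite type on a chart and a closed subspace -/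
theorem exists_ft_between [QuasiSeparatedSpace ↥S] (X : Space S) (hqc : IsQuasiCompactSp X.obj)
    (hqs : IsQuasiSeparatedSp X.obj) {U : Over S} [hU : IsAffine U.left] {φ : (yon S).obj U ⟶ X.obj} (hφ : RepWith @Etale φ)
    {K : Sp S} {k : K ⟶ X.obj} (hk : RepWith @IsClosedImmersion k) {IK : U.left.IdealSheafData}
    (hIK : IsPullIdeal k φ IK) {M : U.left.IdealSheafData} (hM : BlowUp.IsFiniteTypeIdeal M) (hle : M ≤ IK) :
    ∃ (Z : Sp S) (z : Z ⟶ X.obj) (L : U.left.IdealSheafData), RepWith @IsClosedImmersion z ∧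
      IsPullIdeal z φ L ∧ BlowUp.IsFiniteTypeIdeal L ∧ M ≤ L ∧ L ≤ IK := by
  classical
  let E₀ : EtOver X.obj := EtOver.mk φ hφ
  haveI : IsAffine E₀.obj.left.left := hU
  have hK : IsAlgSpace K := isAlgSpace_of_closed X.property hk
  have hq : IsQuasiCompactMor k := (isQuasiCompactMor_iff_repWith hK X.property hk.1).2
    (repWith_mono (P := @IsClosedImmersion) (Q := @QuasiCompact) (fun _ _ g hg => have : IsClosedImmersion g := hg; inferInstance) hk)
  let J := idealOfRep hk.1
  have hJ : J.IsQCoh := idealOfRep_isQCoh hK X.property hk.1 hq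
  have hJe : J.ideal E₀ inferInstance = IK.ideal ⟨⊤, isAffineOpen_top _⟩ := idealOfRep_eq hk E₀ inferInstance hIK
  have key : ∀ s : Finset Γ(E₀.obj.left.left, ⊤), (∀ a ∈ s, a ∈ J.ideal E₀ inferInstance) →
      ∃ I : IdealEt X.obj, SpApprox.FT J I ∧ ∀ a ∈ s, a ∈ I.ideal E₀ inferInstance := by
    intro s
    induction s using Finset.induction_on with
    | empty => exact fun _ => ⟨⊥, SpApprox.ft_bot J, fun a ha => absurd ha (Finset.notMem_empty a)⟩
    | @insert b s _ ih =>
      intro h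
      obtain ⟨I₁, hI₁, h1⟩ := ih fun a ha => h a (Finset.mem_insert_of_mem ha)
      obtain ⟨I₂, hI₂, h2⟩ := SpApprox.exists_ft_mem X hqc hqs J hJ E₀ inferInstance b (h b (Finset.mem_insert_self b s))
      exact ⟨SpApprox.supI I₁ I₂, SpApprox.ft_sup hI₁ hI₂, fun a ha => (Finset.mem_insert.1 ha).elim
        (fun e => e ▸ Ideal.mem_sup_right h2) (fun e => Ideal.mem_sup_left (h1 a e))⟩
  obtain ⟨s, hs⟩ := hM ⟨⊤, isAffineOpen_top U.left⟩
  obtain ⟨I, hI, hsI⟩ := key s fun a ha => by
    rw [hJe]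
    exact hle ⟨⊤, isAffineOpen_top U.left⟩ (hs ▸ Ideal.subset_span ha)
  obtain ⟨Z, z, hZ, hz⟩ := exists_isCutOutBy X.property hI.1
  obtain ⟨L, hL⟩ := exists_pullIdeal hz.1 φ
  have hLI : L.ideal ⟨⊤, isAffineOpen_top _⟩ = I.ideal E₀ inferInstance :=
    ((congrArg (fun I : IdealEt X.obj => I.ideal E₀ inferInstance) hz.2).symm.trans
      (idealOfRep_eq hz.1 E₀ inferInstance hL)).symm
  refine ⟨Z, z, L, hz.1, hL, fun V => ?_, Scheme.IdealSheafData.le_of_isAffine ?_, Scheme.IdealSheafData.le_of_isAffine ?_⟩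
  · have e : L.ideal V = (L.ideal ⟨⊤, isAffineOpen_top _⟩).map
        (U.left.presheaf.map (homOfLE (le_top : V.1 ≤ ⊤)).op).hom :=
      (L.map_ideal (U := V) (V := ⟨⊤, isAffineOpen_top _⟩) (le_top : V.1 ≤ ⊤)).symm
    rw [e, hLI]
    exact (hI.2.1 E₀ inferInstance).map _
  · rw [hLI, ← hs]
    exact Ideal.span_le.2 fun a ha => hsI a ha
  · rw [hLI, ← hJe]
    exact hI.2.2 E₀ inferInstance

theorem lfp_of_fg {U : Scheme.{u}} {I : U.IdealSheafData} (h : BlowUp.IsFiniteTypeIdeal I) :
    LocallyOfFinitePresentation I.subschemeι := GrpdFit.lfp_subschemeι I fun x => by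
  obtain ⟨V, hV, hxV, -⟩ := exists_isAffineOpen_mem_and_subset (x := x) (U := (⊤ : U.Opens)) trivial
  exact ⟨⟨V, hV⟩, hxV, h _⟩

/-- a closed subspace with a finite type ideal on a chart is finitely presented -/
theorem repWith_fp_of_chart {X Z : Sp S} (hX : IsAlgSpace X) {i : Z ⟶ X} (hi : RepWith @IsClosedImmersion i)
    {U : Over S} {φ : (yon S).obj U ⟶ X} (hφ : RepWith @Etale φ) (hφs : RepWith @Surjective φ)
    {I : U.left.IdealSheafData} (hI : IsPullIdeal i φ I) (hfg : BlowUp.IsFiniteTypeIdeal I) :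
    RepWith (@IsClosedImmersion ⊓ @LocallyOfFinitePresentation) i := by
  obtain ⟨fst, sq⟩ := exists_std_square hi hI
  have h2 : RepWith @LocallyOfFinitePresentation i :=
    SpDesc.repWith_of_chart @LocallyOfFinitePresentation hX hi.1 hφ hφs sq
      (show LocallyOfFinitePresentation I.subschemeι from lfp_of_fg hfg)
  exact ⟨hi.1, fun _ _ ξ a v s => ⟨hi.2 ξ a v s, h2.2 ξ a v s⟩⟩

/-- supports, for an ideal descended up to a power of the exceptional one -/
theorem support_mul_eq {X X' : Scheme.{u}} {b : X' ⟶ X} {𝓘 M : X.IdealSheafData} {J : X'.IdealSheafData}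
    (hb : BlowUp.IsBlowUp b 𝓘) {n : ℕ} (hMb : M.comap b = J * (𝓘.comap b) ^ n) :
    ((𝓘 * M).support : Set X) = (𝓘.support : Set X) ∪ (fun y => b y) '' (J.support : Set X') := by
  haveI := BlowUpLib.isIso_restrict hb
  have hE : ∀ y, b y ∉ 𝓘.support → (b y ∈ M.support ↔ y ∈ J.support) := fun y hy => by
    have h1 : y ∈ (M.comap b).support ↔ b y ∈ M.support := by
      rw [← SetLike.mem_coe, Scheme.IdealSheafData.support_comap]; rfl
    have h2 : y ∉ ((𝓘.comap b) ^ n).support := fun h => by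
      cases n with
      | zero =>
        rw [pow_zero, Scheme.IdealSheafData.one_eq_top, Scheme.IdealSheafData.support_top] at h
        exact h
      | succ m =>
        rw [Scheme.IdealSheafData.support_pow_succ, ← SetLike.mem_coe,
          Scheme.IdealSheafData.support_comap] at h
        exact hy h
    rw [← h1, hMb, Scheme.IdealSheafData.support_mul]
    exact or_iff_left h2
  rw [Scheme.IdealSheafData.support_mul, TopologicalSpace.Closeds.coe_sup]
  ext z
  by_cases hz : z ∈ 𝓘.support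
  · exact iff_of_true (Or.inl hz) (Or.inl hz)
  obtain ⟨y, hy⟩ := (b ∣_ 𝓘.support.compl).surjective ⟨z, hz⟩
  have hyz : b y.1 = z := by rw [morphismRestrict_base] at hy; exact congrArg Subtype.val hy
  constructor
  · rintro (h | h)
    · exact Or.inl h
    · exact Or.inr ⟨y.1, (hE _ (hyz.symm ▸ hz)).1 (hyz.symm ▸ h), hyz⟩
  · rintro (h | ⟨y', hy', rfl⟩)
    · exact Or.inl h
    · exact Or.inr ((hE y' hz).2 hy')

set_option maxHeartbeats 1000000 in
theorem exists_isBlowUpSp_comp [QuasiSeparatedSpace ↥S] (X : Space S) {X' X'' Z Z' : Sp S} (hX' : IsAlgSpace X')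
    (hX'' : IsAlgSpace X'') (hqc : IsQuasiCompactSp X.obj) (hqs : IsQuasiSeparatedSp X.obj)
    {i : Z ⟶ X.obj} (hi : RepWith (@IsClosedImmersion ⊓ @LocallyOfFinitePresentation) i)
    {b : X' ⟶ X.obj} (hb : IsBlowUpSp b i)
    {i' : Z' ⟶ X'} (hi' : RepWith (@IsClosedImmersion ⊓ @LocallyOfFinitePresentation) i')
    {b' : X'' ⟶ X'} (hb' : IsBlowUpSp b' i') :
    ∃ (Y : Space S) (iY : Y.obj ⟶ X.obj),
      RepWith (@IsClosedImmersion ⊓ @LocallyOfFinitePresentation) iY ∧
      Set.range (Points.map iY) = Set.range (Points.map i) ∪ Points.map b '' Set.range (Points.map i') ∧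
      IsBlowUpSp (b' ≫ b) iY := by
  classical
  haveI := compactSpace_of_isQuasiCompactSp hqc
  obtain ⟨U, φ, hU, hφ, hφs⟩ := exists_affine_chart_of_compact X.property
  haveI := hU
  have hc : RepWith @IsClosedImmersion i := repWith_mono (fun _ _ r hr => hr.1) hi
  have hc' : RepWith @IsClosedImmersion i' := repWith_mono (fun _ _ r hr => hr.1) hi'
  obtain ⟨I, hI⟩ := exists_pullIdeal hc φ
  have hIf := fg_pullIdeal hi hI
  obtain ⟨B, q, r, sq, hq⟩ := exists_chart_blowUp X.property hX' hc hb hφ hI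
  have hre : RepWith @Etale r := repWith_baseChange sq.flip hφ
  have hrs : RepWith @Surjective r := repWith_baseChange sq.flip hφs
  obtain ⟨J, hJ⟩ := exists_pullIdeal hc' r
  have hJf := fg_pullIdeal hi' hJ
  obtain ⟨B'', q', r', sq', hq'⟩ := exists_chart_blowUp hX' hX'' hc' hb' hre hJ
  haveI : CompactSpace U.left := inferInstance
  obtain ⟨n, M, hM, hMb⟩ := RZExt.exists_descend hq hIf J hJf
  -- the closed subspace of `X'` cut out by `J * E ^ n`
  obtain ⟨R, t, s, sqR⟩ := exists_pullback hX'.diag r r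
  have hP := IsPullback.of_hasPullback i b
  have hE : IsPullIdeal (pullback.snd i b) r (I.comap q.left) :=
    IsPullIdeal.of_isPullback hP (by rw [sq.w]; exact hI.comap q)
  obtain ⟨C, c, hC, hcc, hCI⟩ := exists_closedSub hX' hre hrs sqR (J * (I.comap q.left) ^ n) (by
    rw [BlowUpLib.comap_mul, BlowUpLib.comap_mul, comap_pow, comap_pow, hJ.invariant sqR, hE.invariant sqR])
  obtain ⟨fc, sqc⟩ := exists_std_square hcc hCI
  have hbq : IsQuasiCompactMor b := (isProperMor_of_isBlowUpSp X.property hX' hi hb).2.1.2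
  have hcb : IsQuasiCompactMor (c ≫ b) := isQuasiCompactMor_comp hX' X.property
    ((isQuasiCompactMor_iff_repWith hC hX' hcc.1).2
      (repWith_mono (P := @IsClosedImmersion) (Q := @QuasiCompact) (fun _ _ g hg => have : IsClosedImmersion g := hg; inferInstance) hcc)) hbq
  obtain ⟨K, k, -, hKimg⟩ := exists_schImage (c ≫ b) hC X.property
  have hIK : IsPullIdeal k φ ((J * (I.comap q.left) ^ n).map q.left) := by
    have h1 := pullIdeal_eq_kerIdeal hC X.property hcb hKimg φ (locP_flat_of_etale X.property hφ)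
    have h2 := sqc.paste_vert sq
    rw [← Functor.map_comp] at h2
    rwa [kerIdeal_eq_ker_of_yon h2] at h1
  have hle : M ≤ (J * (I.comap q.left) ^ n).map q.left := Scheme.IdealSheafData.le_map_iff_comap_le.2 hMb.le
  obtain ⟨Z₁, z₁, L, hz₁, hL, hLf, hML, hLK⟩ := exists_ft_between X hqc hqs hφ hKimg.1 hIK hM hle
  have hLb : L.comap q.left = J * (I.comap q.left) ^ n :=
    le_antisymm (Scheme.IdealSheafData.le_map_iff_comap_le.1 hLK)
      (hMb.ge.trans (Scheme.IdealSheafData.comap_mono _ hML))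
  obtain ⟨RX, t₀, s₀, sqX⟩ := exists_pullback X.property.diag φ φ
  obtain ⟨Y, iY, hY, hiY, hYI⟩ := exists_closedSub X.property hφ hφs sqX (I * L) (by
    rw [BlowUpLib.comap_mul, BlowUpLib.comap_mul, hI.invariant sqX, hL.invariant sqX])
  refine ⟨⟨Y, hY⟩, iY, repWith_fp_of_chart X.property hiY hφ hφs hYI (fun V => ?_), ?_, ?_⟩
  · rw [Scheme.IdealSheafData.ideal_mul, Pi.mul_apply]
    exact (hIf V).mul (hLf V)
  · have hsupp := support_mul_eq hq hLb
    ext x
    obtain ⟨u, rfl⟩ := ofPt_surjective hφs x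
    rw [Set.mem_union, hYI.mem_range_iff, hI.mem_range_iff, ← SetLike.mem_coe, hsupp, Set.mem_union]
    refine or_congr Iff.rfl ⟨?_, ?_⟩
    · rintro ⟨y, hy, rfl⟩
      refine ⟨Points.ofPt r y, (hJ.mem_range_iff y).2 hy, ?_⟩
      rw [Points.map_ofPt, sq.w, ofPt_comp]
    · rintro ⟨x', hx', e⟩
      obtain ⟨p, hp1, hp2⟩ := exists_point_of_isPullback sq x' (Points.ofScheme U u)
        (by rw [e, Points.ofPt_eq_map_ofScheme])
      obtain ⟨y, rfl⟩ := (Points.schemeEquiv B).surjective p
      refine ⟨y, (hJ.mem_range_iff y).1 ?_, ?_⟩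
      · rw [Points.ofPt_eq_map_ofScheme]
        exact hp1.symm ▸ hx'
      · exact (Points.schemeEquiv U).injective ((ofScheme_map q y).symm.trans hp2)
  · refine isBlowUpSp_of_chart hiY X.property hφ hφs (q := q' ≫ q) (r := r') ?_ hYI ?_
    · rw [Functor.map_comp]
      exact sq'.paste_vert sq
    · rw [Over.comp_left]
      refine BlowUpLib.isBlowUp_comp hq ?_
      rw [hLb]
      exact RZExt.isBlowUp_mul_of_cartier hq' (RZExt.cartier_pow hq.1 n)

end Groth.Agent.SpBlow

end
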