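import Groth.Agent.SchImg.CartierSub
import Groth.Agent.SchImg.Range
import Groth.Agent.BlowUpExist.Global
import Groth.Agent.BlowUpExist.Proper
import Groth.Agent.BlowUpLib.Basic
import Groth.Agent.AbsApprox.PairLim
import Groth.Prelude.Def_W4stk3spdivBlowUp

/-!
Blow-ups of algebraic spaces are computed on etale charts.
-/

set_option autoImplicit false
set_option linter.style.haveILetI false
set_option backward.isDefEq.respectTransparency false

universe u

noncomputable section

open CategoryTheory CategoryTheory.Limits AlgebraicGeometry AlgSp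

namespace Groth.Agent.SpBlow

open Groth.Agent.AlgSpLib Groth.Agent.SchImg Groth.Agent.BlowUpLib

variable {S : Scheme.{u}} {X Z : Sp S} {i : Z ⟶ X}

/-- the inverse image on a scheme -/
theorem invImage_iff (hi : RepWith @IsClosedImmersion i) {T : Over S} {g : (yon S).obj T ⟶ X}
    {J : T.left.IdealSheafData} (hJ : IsPullIdeal i g J) :
    InvImageIsEffCartier i g ↔ BlowUp.IsEffCartierIdeal J := by
  constructor
  · rintro ⟨P, fst, snd, sq, hc⟩
    refine cartier_of_effCartierSub (IsAlgSpace.yon_obj T) hc (φ := 𝟙 _) (repWith_of_isIso _) ?_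
    exact IsPullIdeal.of_isPullback sq (by rw [Category.id_comp]; exact hJ)
  · intro h
    obtain ⟨fst, sq⟩ := exists_std_square hi hJ
    exact ⟨_, fst, _, sq, repWith_baseChange sq hi, T, 𝟙 _, J, 𝟙 _, repWith_of_isIso _, repWith_of_isIso _,
      IsPullback.of_horiz_isIso ⟨by rw [Category.id_comp, Category.comp_id]⟩, h⟩

/-- from a space to any etale chart of it -/
theorem invImage_comp {Y : Sp S} (hY : IsAlgSpace Y) {g : Y ⟶ X} (h : InvImageIsEffCartier i g) {T : Over S}
    {φ : (yon S).obj T ⟶ Y} (hφ : RepWith @Etale φ) (hi : RepWith @IsClosedImmersion i) :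
    InvImageIsEffCartier i (φ ≫ g) := by
  obtain ⟨P, fst, snd, sq, hc⟩ := h
  obtain ⟨J, hJ⟩ := exists_pullIdeal hi (φ ≫ g)
  exact (invImage_iff hi hJ).2 (cartier_of_effCartierSub hY hc hφ (hJ.of_isPullback sq))

/-- from an atlas to the space -/
theorem invImage_of_chart {Y : Sp S} {g : Y ⟶ X} {T : Over S} {φ : (yon S).obj T ⟶ Y} (hφ : RepWith @Etale φ)
    (hφs : RepWith @Surjective φ) (hi : RepWith @IsClosedImmersion i) (h : InvImageIsEffCartier i (φ ≫ g)) :
    InvImageIsEffCartier i g := by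
  have sq := IsPullback.of_hasPullback i g
  have hc := repWith_baseChange sq hi
  obtain ⟨J, hJ⟩ := exists_pullIdeal hi (φ ≫ g)
  obtain ⟨fst, sq'⟩ := exists_std_square hc (hJ.of_isPullback sq)
  exact ⟨_, _, _, sq, hc, T, φ, J, fst, hφ, hφs, sq', (invImage_iff hi hJ).1 h⟩

theorem cartier_chart {Y : Sp S} (hY : IsAlgSpace Y) {g : Y ⟶ X} (h : InvImageIsEffCartier i g) {T : Over S}
    {φ : (yon S).obj T ⟶ Y} (hφ : RepWith @Etale φ) (hi : RepWith @IsClosedImmersion i)
    {J : T.left.IdealSheafData} (hJ : IsPullIdeal i (φ ≫ g) J) : BlowUp.IsEffCartierIdeal J :=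
  (invImage_iff hi hJ).1 (invImage_comp hY h hφ hi)

/-- the universal property of a scheme blow-up for spaces -/
theorem existsUnique_lift {U B : Over S} {q : B ⟶ U} {φ : (yon S).obj U ⟶ X} (hi : RepWith @IsClosedImmersion i)
    {I : U.left.IdealSheafData} (hI : IsPullIdeal i φ I) (hq : BlowUp.IsBlowUp q.left I) {T : Sp S}
    (hT : IsAlgSpace T) (g : T ⟶ (yon S).obj U) (hg : InvImageIsEffCartier i (g ≫ φ)) :
    ∃! h : T ⟶ (yon S).obj B, h ≫ (yon S).map q = g := by
  obtain ⟨W, c, hce, hcs⟩ := hT.atlas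
  obtain ⟨R, t, s, sqR⟩ := exists_pullback hT.diag c c
  obtain ⟨α, hα⟩ := exists_map_eq (c ≫ g)
  have hcart : BlowUp.IsEffCartierIdeal (I.comap α.left) := cartier_chart hT hg hce hi (by
    rw [← Category.assoc, ← hα]
    exact hI.comap α)
  obtain ⟨l, hl, huniq⟩ := hq.2 _ α.left hcart
  have huniq' : ∀ {k k' : W ⟶ B}, k ≫ q = α → k' ≫ q = α → k = k' := fun {k k'} e e' =>
    Over.OverMorphism.ext ((huniq _ (congrArg (fun z => z.left) e)).trans
      (huniq _ (congrArg (fun z => z.left) e')).symm)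
  let l' : W ⟶ B := Over.homMk l (by rw [← Over.w q, reassoc_of% hl, Over.w α])
  have hl' : l' ≫ q = α := Over.OverMorphism.ext hl
  have ht : t ≫ α = s ≫ α := (yon S).map_injective (by
    rw [Functor.map_comp, Functor.map_comp, hα, reassoc_of% sqR.w])
  haveI : Etale t.left := (repWith_yon_iff t).1 (repWith_baseChange sqR.flip hce)
  have heq : t ≫ l' = s ≫ l' := by
    refine Over.OverMorphism.ext ((hq.2 _ (t.left ≫ α.left) ?_).unique ?_ ?_)
    · rw [Scheme.IdealSheafData.comap_comp]
      exact cartier_comap_flat hcart t.left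
    · exact congrArg (fun z => z.left) (show (t ≫ l') ≫ q = t ≫ α by rw [Category.assoc, hl'])
    · exact congrArg (fun z => z.left) (show (s ≫ l') ≫ q = t ≫ α by rw [Category.assoc, hl', ht])
  haveI := Bootstrap.isLocallySurjective_of_atlas hce hcs
  obtain ⟨hcol⟩ := isColimit_of_isPullback sqR
  have hw : (yon S).map t ≫ (yon S).map l' = (yon S).map s ≫ (yon S).map l' := by
    rw [← Functor.map_comp, ← Functor.map_comp, heq]
  have hfac : c ≫ hcol.desc (Cofork.ofπ ((yon S).map l') hw) = (yon S).map l' :=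
    hcol.fac _ WalkingParallelPair.one
  refine ⟨hcol.desc (Cofork.ofπ ((yon S).map l') hw), Cofork.IsColimit.hom_ext hcol ?_,
    fun h (hh : h ≫ _ = g) => Cofork.IsColimit.hom_ext hcol ?_⟩
  · show c ≫ _ ≫ _ = c ≫ g
    rw [reassoc_of% hfac, ← Functor.map_comp, hl', hα]
  · show c ≫ h = c ≫ _
    rw [hfac]
    obtain ⟨k, hk⟩ := exists_map_eq (c ≫ h)
    rw [← hk, huniq' (k := k) ((yon S).map_injective (by rw [Functor.map_comp, hk, Category.assoc, hh, hα])) hl']

variable {X' : Sp S} {b : X' ⟶ X}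

/-- the base change of a blow-up to a chart is the blow-up of the chart -/
theorem exists_chart_blowUp (hX : IsAlgSpace X) (hX' : IsAlgSpace X') (hi : RepWith @IsClosedImmersion i)
    (hb : IsBlowUpSp b i) {U : Over S} {φ : (yon S).obj U ⟶ X} (hφ : RepWith @Etale φ)
    {I : U.left.IdealSheafData} (hI : IsPullIdeal i φ I) :
    ∃ (B : Over S) (q : B ⟶ U) (r : (yon S).obj B ⟶ X'),
      IsPullback r ((yon S).map q) b φ ∧ BlowUp.IsBlowUp q.left I := by
  obtain ⟨B₀, β, hβ⟩ := BlowUpExist.exists_isBlowUp U.left I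
  let B : Over S := Over.mk (β ≫ U.hom)
  let q : B ⟶ U := Over.homMk β rfl
  have hq : BlowUp.IsBlowUp q.left I := hβ
  obtain ⟨r, hr, -⟩ := hb.2 (IsAlgSpace.yon_obj B) ((yon S).map q ≫ φ) ((invImage_iff hi (hI.comap q)).2 hq.1)
  have sq := IsPullback.of_hasPullback b φ
  have hP : IsAlgSpace (pullback b φ) := isAlgSpace_of_isPullback_space hX hX' (IsAlgSpace.yon_obj U) sq
  have hfe : RepWith @Etale (pullback.fst b φ) := repWith_baseChange sq.flip hφ
  obtain ⟨W, c, hce, hcs⟩ := hP.atlas
  have hinv : InvImageIsEffCartier i (pullback.fst b φ ≫ b) := invImage_of_chart hce hcs hi (by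
    rw [← Category.assoc]
    exact invImage_comp hX' hb.1 (repWith_comp hce hfe) hi)
  have hinv' : InvImageIsEffCartier i (pullback.snd b φ ≫ φ) := by rwa [← sq.w]
  obtain ⟨l, hl, -⟩ := existsUnique_lift hi hI hq hP (pullback.snd b φ) hinv'
  let m : (yon S).obj B ⟶ pullback b φ := pullback.lift r ((yon S).map q) hr
  have hm1 : m ≫ l = 𝟙 _ := by
    refine (existsUnique_lift hi hI hq (IsAlgSpace.yon_obj B) ((yon S).map q)
      ((invImage_iff hi (hI.comap q)).2 hq.1)).unique ?_ (Category.id_comp _)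
    rw [Category.assoc, hl, pullback.lift_snd]
  have hm2 : l ≫ m = 𝟙 _ := by
    refine pullback.hom_ext ?_ ?_
    · rw [Category.assoc, pullback.lift_fst, Category.id_comp]
      refine (hb.2 hP _ hinv).unique ?_ rfl
      rw [Category.assoc, hr, reassoc_of% hl, sq.w]
    · rw [Category.assoc, pullback.lift_snd, Category.id_comp, hl]
  exact ⟨B, q, r, sq.of_iso ⟨l, m, hm2, hm1⟩ (Iso.refl _) (Iso.refl _) (Iso.refl _)
    (show pullback.fst b φ ≫ 𝟙 _ = l ≫ r from
      ((Category.comp_id _).trans (Category.id_comp _).symm).trans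
        ((congrArg (· ≫ pullback.fst b φ) hm2.symm).trans ((Category.assoc _ _ _).trans (congrArg (l ≫ ·) (pullback.lift_fst _ _ _)))))
    (by show pullback.snd b φ ≫ 𝟙 _ = l ≫ _; rw [Category.comp_id, hl])
    (by simp) (by simp), hq⟩

/-- a morphism which is the blow-up on a chart is the blow-up -/
theorem isBlowUpSp_of_chart (hi : RepWith @IsClosedImmersion i) (hX : IsAlgSpace X)
    {U B : Over S} {φ : (yon S).obj U ⟶ X} (hφ : RepWith @Etale φ) (hφs : RepWith @Surjective φ)
    {q : B ⟶ U} {r : (yon S).obj B ⟶ X'} (sq : IsPullback r ((yon S).map q) b φ)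
    {I : U.left.IdealSheafData} (hI : IsPullIdeal i φ I) (hq : BlowUp.IsBlowUp q.left I) : IsBlowUpSp b i := by
  refine ⟨invImage_of_chart (repWith_baseChange sq.flip hφ) (repWith_baseChange sq.flip hφs) hi
    (by rw [sq.w]; exact (invImage_iff hi (hI.comap q)).2 hq.1), fun T hT g hg => ?_⟩
  obtain ⟨W, c, α, hce, hcs, hα⟩ := exists_chart_lift hT hX g hφ hφs
  have hcart : BlowUp.IsEffCartierIdeal (I.comap α.left) := cartier_chart hT hg hce hi (by
    rw [hα]
    exact hI.comap α)
  obtain ⟨R, t, s, sqR⟩ := exists_pullback hT.diag c c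
  haveI : Etale t.left := (repWith_yon_iff t).1 (repWith_baseChange sqR.flip hce)
  haveI := Bootstrap.isLocallySurjective_of_atlas hce hcs
  obtain ⟨hcol⟩ := isColimit_of_isPullback sqR
  -- two maps to `X'` over the same map to `U` agree if the pullback of the centre is Cartier
  have key : ∀ {V : Over S} (v : V ⟶ U), BlowUp.IsEffCartierIdeal (I.comap v.left) →
      ∀ (a a' : (yon S).obj V ⟶ X'), a ≫ b = (yon S).map v ≫ φ → a' ≫ b = (yon S).map v ≫ φ → a = a' := by
    intro V v hv a a' ha ha'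
    obtain ⟨m, hm⟩ := exists_map_eq (sq.lift a ((yon S).map v) ha)
    obtain ⟨m', hm'⟩ := exists_map_eq (sq.lift a' ((yon S).map v) ha')
    have e : m ≫ q = v := (yon S).map_injective (by rw [Functor.map_comp, hm, sq.lift_snd])
    have e' : m' ≫ q = v := (yon S).map_injective (by rw [Functor.map_comp, hm', sq.lift_snd])
    have : m = m' := Over.OverMorphism.ext ((hq.2 _ v.left hv).unique
      (congrArg (fun z => z.left) e) (congrArg (fun z => z.left) e'))
    rw [← sq.lift_fst a ((yon S).map v) ha, ← sq.lift_fst a' ((yon S).map v) ha', ← hm, ← hm', this]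
  obtain ⟨l, hl, -⟩ := hq.2 _ α.left hcart
  let l' : W ⟶ B := Over.homMk l (by rw [← Over.w q, reassoc_of% hl, Over.w α])
  have hl' : l' ≫ q = α := Over.OverMorphism.ext hl
  let a := (yon S).map l' ≫ r
  have ha : a ≫ b = c ≫ g := by
    rw [Category.assoc, sq.w, ← Functor.map_comp_assoc, hl', hα]
  have hw : (yon S).map t ≫ a = (yon S).map s ≫ a := by
    refine key (t ≫ α) (by rw [Over.comp_left, Scheme.IdealSheafData.comap_comp]; exact cartier_comap_flat hcart t.left)
      _ _ ?_ ?_
    · rw [Category.assoc, ha, hα, Functor.map_comp, Category.assoc]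
    · rw [Category.assoc, ha, ← Category.assoc, ← sqR.w, Category.assoc, hα, Functor.map_comp, Category.assoc]
  have hfac : c ≫ hcol.desc (Cofork.ofπ a hw) = a := hcol.fac _ WalkingParallelPair.one
  refine ⟨hcol.desc (Cofork.ofπ a hw), Cofork.IsColimit.hom_ext hcol ?_,
    fun h (hh : h ≫ b = g) => Cofork.IsColimit.hom_ext hcol ?_⟩
  · show c ≫ _ ≫ b = c ≫ g
    rw [reassoc_of% hfac, ha]
  · show c ≫ h = c ≫ _
    rw [hfac]
    exact key α hcart _ _ (by rw [Category.assoc, hh, hα]) (ha.trans hα)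

/-- the ideal of a finitely presented closed subspace on a chart -/
theorem fg_pullIdeal (hi : RepWith (@IsClosedImmersion ⊓ @LocallyOfFinitePresentation) i) {U : Over S}
    {φ : (yon S).obj U ⟶ X} {I : U.left.IdealSheafData} (hI : IsPullIdeal i φ I) : BlowUp.IsFiniteTypeIdeal I := by
  obtain ⟨W, z, v, sq, hv⟩ := exists_repWith hi φ
  haveI : IsClosedImmersion v.left := hv.1
  haveI : LocallyOfFinitePresentation v.left := hv.2
  rw [hI.unique (isPullIdeal_ker_of_isPullback sq)]
  exact fun V => AbsApprox.fg_ker_ideal_of_lfp v.left V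

/-- blow-ups in finitely presented centres are proper on charts -/
theorem isProper_chart (hi : RepWith (@IsClosedImmersion ⊓ @LocallyOfFinitePresentation) i) {U B : Over S}
    {φ : (yon S).obj U ⟶ X} {q : B ⟶ U} {I : U.left.IdealSheafData} (hI : IsPullIdeal i φ I)
    (hq : BlowUp.IsBlowUp q.left I) : IsProper q.left :=
  BlowUpExist.isProper_of_isFiniteType hq (fg_pullIdeal hi hI)

end Groth.Agent.SpBlow

end
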